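import Groth.Prelude.Def_HMNum

/-!
# Transporting limits and fibre weights by a rational point of the group
-/

set_option autoImplicit false

universe u

open CategoryTheory CategoryTheory.Limits MonoidalCategory CartesianMonoidalCategory MonObj AlgebraicGeometry Opposite

noncomputable section

namespace Groth.Agent.HMConj

variable {S : Scheme.{u}} {G X V : Over S} [GrpObj G]

theorem act_mul (a : AlgGrp.Action G X) {T : Over S} (g h : T ⟶ G) (x : T ⟶ X) :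
    lift (g * h) x ≫ a.act = lift g (lift h x ≫ a.act) ≫ a.act := by
  simpa using (Magnet.MonAct.ofAction a).lift_mul_act g h x

theorem act_one (a : AlgGrp.Action G X) {T : Over S} (x : T ⟶ X) : lift (1 : T ⟶ G) x ≫ a.act = x := by
  simpa using (Magnet.MonAct.ofAction a).lift_one_act x

theorem eval_congr {W Y : Over S} {U : Y.left.Opens} {f f' : W ⟶ Y} (hff : f = f') (e : ⊤ ≤ f.left ⁻¹ᵁ U)
    (e' : ⊤ ≤ f'.left ⁻¹ᵁ U) (z : Γ(Y.left, U)) : f.left.appLE U ⊤ e z = f'.left.appLE U ⊤ e' z := by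
  subst hff; rfl

theorem eval_comp {W Y Z : Over S} (p : W ⟶ Y) (q : Y ⟶ Z) {U : Z.left.Opens} {O : Y.left.Opens}
    (e₁ : ⊤ ≤ p.left ⁻¹ᵁ O) (e₂ : O ≤ q.left ⁻¹ᵁ U) (z : Γ(Z.left, U)) :
    p.left.appLE O ⊤ e₁ (q.left.appLE U O e₂ z) =
      (p ≫ q).left.appLE U ⊤ (e₁.trans (p.left.preimage_mono e₂)) z := by
  have h := Scheme.Hom.appLE_comp_appLE p.left q.left U O ⊤ e₂ e₁
  exact congrArg (fun m => m.hom z) h

variable {a : AlgGrp.Action G X} (B : GLinSh.LinBun G a)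

theorem lift_act_π {T : Over S} (g : T ⟶ G) (v : T ⟶ B.V) :
    (lift g v ≫ B.lift.act) ≫ B.π = lift g (v ≫ B.π) ≫ a.act := by
  rw [Category.assoc, B.lift_π, lift_whiskerLeft_assoc]

/-- The `X`-translate of a point by a rational point of the group. -/
abbrev tr (a : AlgGrp.Action G X) (h : 𝟙_ (Over S) ⟶ G) : X ⟶ X :=
  lift (toUnit X ≫ h) (𝟙 X) ≫ a.act

omit B in
theorem comp_tr (h : 𝟙_ (Over S) ⟶ G) {T : Over S} (x : T ⟶ X) :
    x ≫ tr a h = lift (toUnit T ≫ h) x ≫ a.act := by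
  simp [tr, comp_lift_assoc]

/-- A coordinate at the translate is a fixed multiple of a coordinate at the point. -/
theorem exists_eval (h : 𝟙_ (Over S) ⟶ G) {T' : Over S} (q : T' ⟶ X) {U U' : X.left.Opens}
    {y : Γ(B.V.left, B.π.left ⁻¹ᵁ U)} {y' : Γ(B.V.left, B.π.left ⁻¹ᵁ U')} (hy : y ∈ B.atlas.chart U)
    (hy' : y' ∈ B.atlas.chart U') :
    ∃ C : Γ(T'.left, ⊤), ∀ (w : T' ⟶ B.V), w ≫ B.π = q → ∀ (e : ⊤ ≤ w.left ⁻¹ᵁ (B.π.left ⁻¹ᵁ U))
      (e' : ⊤ ≤ (lift (toUnit T' ≫ h) w ≫ B.lift.act).left ⁻¹ᵁ (B.π.left ⁻¹ᵁ U')),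
      HMNum.evalFn B.π y' (lift (toUnit T' ≫ h) w ≫ B.lift.act) e' = C * HMNum.evalFn B.π y w e := by
  obtain ⟨c, hc⟩ := B.lift_linear U U' y y' hy hy'
  let O : (G ⊗ X).left.Opens := a.act.left ⁻¹ᵁ U' ⊓ (snd G X).left ⁻¹ᵁ U
  by_cases hO : ⊤ ≤ (lift (toUnit T' ≫ h) q).left ⁻¹ᵁ O
  swap
  · refine ⟨0, fun w hw e e' => absurd ?_ hO⟩
    intro z hz
    subst hw
    refine ⟨?_, ?_⟩
    · have : (lift (toUnit T' ≫ h) (w ≫ B.π) ≫ a.act).left z ∈ U' := by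
        rw [← lift_act_π]; exact e' hz
      exact this
    · have : (lift (toUnit T' ≫ h) (w ≫ B.π) ≫ snd G X).left z ∈ U := by
        rw [lift_snd]; exact e hz
      exact this
  refine ⟨(lift (toUnit T' ≫ h) q).left.appLE O ⊤ hO c, fun w hw e e' => ?_⟩
  let p : T' ⟶ G ⊗ B.V := lift (toUnit T' ≫ h) w
  have hp : p ≫ (G ◁ B.π) = lift (toUnit T' ≫ h) q := by rw [← hw]; exact lift_whiskerLeft _ _ _
  have hpO : ⊤ ≤ p.left ⁻¹ᵁ GLinSh.liftOpen a B.π U U' := fun z hz => by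
    have : (p ≫ (G ◁ B.π)).left z ∈ O := by rw [hp]; exact hO hz
    exact this
  have key := congrArg (fun z => p.left.appLE _ ⊤ hpO z) hc
  simp only [map_mul] at key
  rw [eval_comp, eval_comp, eval_comp] at key
  refine key.trans (congrArg₂ (· * ·) (eval_congr hp _ _ _) (eval_congr (lift_snd _ _) _ _ _))

theorem isMu_of_conj {k : Type u} [Field k] {G X : Over (Spec (CommRingCat.of k))} [GrpObj G]
    {a : AlgGrp.Action G X} (B : GLinSh.LinBun G a) (h : 𝟙_ (Over (Spec (CommRingCat.of k))) ⟶ G)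
    (l l₂ : Red.Gm (Spec (CommRingCat.of k)) ⟶ G) [IsMonHom l] [IsMonHom l₂]
    (hl : l₂ = (toUnit _ ≫ h) * l * (toUnit _ ≫ h)⁻¹) (x : 𝟙_ (Over (Spec (CommRingCat.of k))) ⟶ X) (m : ℤ)
    (hμ : HMNum.IsMu B l x m) : HMNum.IsMu B l₂ (x ≫ tr a h) m := by
  obtain ⟨y, ⟨φ, hφx, hφy⟩, hfix, U, c₀, hc₀, hU, hwt⟩ := hμ
  have conj : ∀ {T : Over (Spec (CommRingCat.of k))} (g : T ⟶ Red.Gm (Spec (CommRingCat.of k))),
      (g ≫ l₂) * (toUnit T ≫ h) = (toUnit T ≫ h) * (g ≫ l) := fun g => by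
    rw [hl, MonObj.comp_mul, MonObj.comp_mul, GrpObj.comp_inv, ← Category.assoc, comp_toUnit, inv_mul_cancel_right]
  have heqv : Magnet.MonAct.IsEquivariant (HMNum.gmAct a l) (HMNum.gmAct a l₂) (tr a h) := by
    rw [Magnet.MonAct.isEquivariant_iff]
    intro T g z
    rw [Magnet.MonAct.lift_restrict_act_assoc, Magnet.MonAct.lift_restrict_act, Magnet.MonAct.ofAction_act,
      ← Category.assoc, comp_tr, comp_tr, ← act_mul, ← act_mul, conj]
  refine ⟨y ≫ tr a h, ⟨(Magnet.MonAct.eqvHom.postcomp _ (tr a h) heqv).app _ φ, ?_, ?_⟩, ?_, ?_⟩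
  · show lift (toUnit (𝟙_ (Over (Spec (CommRingCat.of k)))) ≫ η[HMNum.A1 _]) (𝟙 _) ≫ φ.1 ≫ tr a h = x ≫ tr a h
    rw [← Category.assoc, ← hφx]
    rfl
  · rw [← hφy, HMNum.limitPt_eq, HMNum.limitPt_eq]; exact (CategoryTheory.Category.assoc _ _ _).symm
  · intro T' t g
    rw [← Category.assoc, comp_tr, ← act_mul, conj, act_mul, hfix T' t g]
  let pt := (y ≫ tr a h).left (IsLocalRing.closedPoint k)
  obtain ⟨U', hpt, c₁, hc₁⟩ := B.atlas.cover pt
  haveI : Subsingleton (𝟙_ (Over (Spec (CommRingCat.of k)))).left := inferInstanceAs (Subsingleton (PrimeSpectrum k))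
  have hU' : (y ≫ tr a h).left ⁻¹ᵁ U' = ⊤ := TopologicalSpace.Opens.ext (Set.eq_univ_of_forall fun z => by
    rw [Subsingleton.elim z (IsLocalRing.closedPoint k)]; exact hpt)
  refine ⟨U', c₁, hc₁, hU', fun T' t g v' hv' hgv' => ?_⟩
  let v : T' ⟶ B.V := lift (toUnit T' ≫ h)⁻¹ v' ≫ B.lift.act
  have hv : v ≫ B.π = t ≫ y := by
    rw [lift_act_π, hv', ← Category.assoc, comp_tr, ← act_mul, inv_mul_cancel, act_one]
  have hgv : (lift (g ≫ l) v ≫ B.lift.act) ≫ B.π = t ≫ y := by rw [lift_act_π, hv, hfix T' t g]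
  have hvv : lift (toUnit T' ≫ h) v ≫ B.lift.act = v' := by
    rw [← act_mul, mul_inv_cancel, act_one]
  have hgvv : lift (toUnit T' ≫ h) (lift (g ≫ l) v ≫ B.lift.act) ≫ B.lift.act = lift (g ≫ l₂) v' ≫ B.lift.act := by
    rw [← act_mul, ← conj, act_mul, hvv]
  obtain ⟨C, hC⟩ := exists_eval B h (t ≫ y) (T' := T') hc₀ hc₁
  have e1 := hC v hv (HMNum.top_le_preimage B.π hU hv) (by rw [hvv]; exact HMNum.top_le_preimage B.π hU' hv')
  have e2 := hC _ hgv (HMNum.top_le_preimage B.π hU hgv) (by rw [hgvv]; exact HMNum.top_le_preimage B.π hU' hgv')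
  have f1 : HMNum.evalFn B.π c₁ _ (HMNum.top_le_preimage B.π hU' hv') = _ := (eval_congr hvv.symm _ _ _).trans e1
  have f2 : HMNum.evalFn B.π c₁ _ (HMNum.top_le_preimage B.π hU' hgv') = _ := (eval_congr hgvv.symm _ _ _).trans e2
  rw [f1, f2, hwt T' t g v hv hgv, mul_left_comm]

end Groth.Agent.HMConj
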