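import Groth.Prelude.Def_HMNum
import Groth.Agent.S18285
import Groth.Agent.Misc15.AMonCover

/-!
# Limits under a one-parameter subgroup: uniqueness, fixedness, limits of fixed points
-/

set_option autoImplicit false
set_option backward.isDefEq.respectTransparency.types false

universe u

open CategoryTheory CategoryTheory.Limits MonoidalCategory CartesianMonoidalCategory MonObj AlgebraicGeometry Opposite
open Magnet HMNum

noncomputable section

namespace Groth.Agent.HMConj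

variable {S : Scheme.{u}} {G X : Over S} [GrpObj G] {a : AlgGrp.Action G X} {l : Red.Gm S ⟶ G} [IsMonHom l]

theorem point_bot_unique {T : Over S} (p q : T ⟶ AMonS S ↥(⊥ : AddSubmonoid ℤ)) : p = q := by
  refine Misc15.AMonCover.hom_ext_affine _ _ fun K _ sK r => ?_
  obtain ⟨χ, hχ⟩ := Misc15.MagnetPointsS.P_surjective sK (r ≫ p)
  obtain ⟨χ', hχ'⟩ := Misc15.MagnetPointsS.P_surjective sK (r ≫ q)
  have : χ = χ' := MonoidHom.ext fun n => by
    rw [show n = 1 from Multiplicative.toAdd.injective (Subtype.ext ((AddSubmonoid.mem_bot.1 (Multiplicative.toAdd n).2).trans rfl)),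
      map_one, map_one]
  rw [← hχ, ← hχ', this]

theorem limit_unique [IsSeparated X.hom] {T : Over S} {x y y' : T ⟶ X} (h : IsLimitPt a l x y)
    (h' : IsLimitPt a l x y') : y = y' := by
  obtain ⟨φ, hx, hy⟩ := h
  obtain ⟨φ', hx', hy'⟩ := h'
  have : φ = φ' := S18285.result S ℤ X (gmAct a l) plus T (hx.trans hx'.symm)
  rw [← hy, ← hy', this]

/-- A limit is fixed. -/
theorem isFixedBy_of_isLimitPt {T : Over S} {x y : T ⟶ X} (h : IsLimitPt a l x y) : IsFixedBy a l y := by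
  obtain ⟨φ, -, rfl⟩ := h
  obtain ⟨ψ, hψ⟩ : ∃ ψ : (attr (gmAct a l) (⊥ : AddSubmonoid ℤ)).obj (op T),
      limitPt φ = lift (1 : T ⟶ AMonS S ↥(⊥ : AddSubmonoid ℤ)) (𝟙 T) ≫ ψ.1 :=
    ⟨(attrFace (gmAct a l) isFace_bot).app (op T) φ, by rw [Hom.one_def]; rfl⟩
  rw [hψ]
  intro T' t g
  have h1 := (MonAct.mem_eqvHom_iff ψ.1).1 ψ.2 T' g 1 t
  rw [point_bot_unique (lift g (1 : T' ⟶ AMonS S ↥(⊥ : AddSubmonoid ℤ)) ≫ (subAct S ℤ (⊥ : AddSubmonoid ℤ)).act) 1,
    MonAct.lift_restrict_act, MonAct.ofAction_act] at h1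
  rw [comp_lift_assoc, Category.comp_id, MonObj.comp_one]
  exact h1.symm

/-- A fixed point is its own limit. -/
theorem isLimitPt_of_fixed {T : Over S} {y : T ⟶ X} (h : IsFixedBy a l y) : IsLimitPt a l y y := by
  have he : MonAct.IsEquivariant ((subAct S ℤ plus).prod (MonAct.trivial (Red.Gm S) T)) (gmAct a l)
      (snd _ T ≫ y) := by
    refine (MonAct.mem_eqvHom_iff _).2 fun T' g b t => ?_
    rw [lift_snd_assoc, lift_snd_assoc, MonAct.lift_restrict_act, MonAct.ofAction_act, h T' t g]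
  refine ⟨⟨snd _ T ≫ y, he⟩, ?_, ?_⟩
  · show lift (toUnit T ≫ η[AMonS S ↥plus]) (𝟙 T) ≫ snd _ T ≫ y = y
    rw [lift_snd_assoc, Category.id_comp]
  · rw [limitPt_eq]
    show lift _ (𝟙 T) ≫ snd _ T ≫ y = y
    rw [lift_snd_assoc, Category.id_comp]

end Groth.Agent.HMConj
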